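import Mathlib.LinearAlgebra.Matrix.Determinant.Basic
import Mathlib.Data.Finsupp.Defs
import Mathlib.LinearAlgebra.Finsupp.Supported
import Mathlib.Data.Finset.Sort
import Mathlib.Data.Fintype.Pi

/-!
Chains on tuples: the alternating projection is homotopic to the identity, with supports.
-/

set_option autoImplicit false
set_option linter.unusedSectionVars false

universe u

namespace Groth.Agent.CechAlt

variable (ι : Type u)

/-- chains on `n`-tuples -/
abbrev Ch (n : ℕ) : Type u := (Fin n → ι) →₀ ℤ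

variable {ι}

/-- linear map given on tuples -/
noncomputable abbrev lc {n : ℕ} {M : Type*} [AddCommGroup M] (f : (Fin n → ι) → M) : Ch ι n →ₗ[ℤ] M :=
  Finsupp.linearCombination ℤ f

lemma lc_single {n : ℕ} {M : Type*} [AddCommGroup M] (f : (Fin n → ι) → M) (a : Fin n → ι) :
    lc f (Finsupp.single a 1) = f a := by simp

lemma lext {n : ℕ} {M : Type*} [AddCommGroup M] {f g : Ch ι n →ₗ[ℤ] M}
    (h : ∀ a, f (Finsupp.single a 1) = g (Finsupp.single a 1)) : f = g :=
  Finsupp.lhom_ext' fun a => LinearMap.ext_ring (h a)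

/-- the boundary -/
noncomputable def bd (n : ℕ) : Ch ι (n + 1) →ₗ[ℤ] Ch ι n :=
  lc fun a => ∑ k : Fin (n + 1), (-1 : ℤ) ^ (k : ℕ) • Finsupp.single (a ∘ k.succAbove) 1

lemma bd_single {n : ℕ} (a : Fin (n + 1) → ι) :
    bd n (Finsupp.single a 1) = ∑ k : Fin (n + 1), (-1 : ℤ) ^ (k : ℕ) • Finsupp.single (a ∘ k.succAbove) 1 :=
  lc_single _ a

/-- the cone -/
noncomputable def cone (n : ℕ) (v : ι) : Ch ι n →ₗ[ℤ] Ch ι (n + 1) :=
  lc fun a => Finsupp.single (Fin.cons v a) 1

lemma cone_single {n : ℕ} (v : ι) (a : Fin n → ι) :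
    cone n v (Finsupp.single a 1) = Finsupp.single (Fin.cons v a) 1 := lc_single _ a

lemma bd_cone (n : ℕ) (v : ι) (c : Ch ι (n + 1)) : bd (n + 1) (cone (n + 1) v c) = c - cone n v (bd n c) := by
  suffices h : bd (n + 1) ∘ₗ cone (n + 1) v = LinearMap.id - cone n v ∘ₗ bd n from LinearMap.congr_fun h c
  refine lext fun a => ?_
  simp only [LinearMap.comp_apply, LinearMap.sub_apply, LinearMap.id_coe, id_eq, cone_single, bd_single, map_sum,
    map_zsmul]
  rw [Fin.sum_univ_succ, sub_eq_add_neg, ← Finset.sum_neg_distrib]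
  congr 1
  · simp [Fin.succAbove_zero, Function.comp_def]
  · refine Finset.sum_congr rfl fun k _ => ?_
    have e : (Fin.cons v a : Fin (n + 2) → ι) ∘ k.succ.succAbove = Fin.cons v (a ∘ k.succAbove) := by
      funext i
      refine Fin.cases ?_ (fun i => ?_) i <;> simp
    rw [e, Fin.val_succ, pow_succ, mul_neg, mul_one, neg_smul]

lemma bd_bd (n : ℕ) (c : Ch ι (n + 2)) : bd n (bd (n + 1) c) = 0 := by
  suffices h : ∀ n, bd (ι := ι) n ∘ₗ bd (n + 1) = 0 from LinearMap.congr_fun (h n) c
  intro n
  induction n with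
  | zero =>
    refine lext fun a => ?_
    have : a = Fin.cons (a 0) (Fin.tail a) := (Fin.cons_self_tail a).symm
    rw [LinearMap.comp_apply, LinearMap.zero_apply, this, ← cone_single, bd_cone, map_sub]
    have e : ∀ e : Ch ι 0, bd 0 (cone 0 (a 0) e) = e := by
      intro e
      suffices h : bd 0 ∘ₗ cone 0 (a 0) = LinearMap.id from LinearMap.congr_fun h e
      refine lext fun b => ?_
      simp [cone_single, bd_single, Subsingleton.elim _ b]
    rw [e, sub_self]
  | succ n ih =>
    refine lext fun a => ?_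
    have : a = Fin.cons (a 0) (Fin.tail a) := (Fin.cons_self_tail a).symm
    rw [LinearMap.comp_apply, LinearMap.zero_apply, this, ← cone_single, bd_cone, map_sub, bd_cone,
      show bd n (bd (n + 1) (Finsupp.single (Fin.tail a) 1)) = 0 from LinearMap.congr_fun ih _, map_zero, sub_zero,
      sub_self]

/-- chains on the vertices of a tuple -/
noncomputable def Supp {m : ℕ} (a : Fin m → ι) (n : ℕ) : Submodule ℤ (Ch ι n) :=
  Finsupp.supported ℤ ℤ {b | Set.range b ⊆ Set.range a}

lemma single_mem_supp {m n : ℕ} {a : Fin m → ι} {b : Fin n → ι} (h : Set.range b ⊆ Set.range a) :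
    Finsupp.single b 1 ∈ Supp a n := Finsupp.single_mem_supported ℤ 1 h

lemma supp_induction {m n : ℕ} {a : Fin m → ι} {p : Ch ι n → Prop} {c : Ch ι n} (hc : c ∈ Supp a n)
    (h0 : p 0) (hadd : ∀ x y, p x → p y → p (x + y)) (hsmul : ∀ (r : ℤ) x, p x → p (r • x))
    (h : ∀ b : Fin n → ι, Set.range b ⊆ Set.range a → p (Finsupp.single b 1)) : p c := by
  rw [Supp, Finsupp.supported_eq_span_single] at hc
  induction hc using Submodule.span_induction with
  | mem x hx =>
    obtain ⟨b, hb, rfl⟩ := hx
    exact h b hb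
  | zero => exact h0
  | add x y _ _ hx hy => exact hadd x y hx hy
  | smul r x _ hx => exact hsmul r x hx

lemma supp_mono {l m n : ℕ} {a : Fin m → ι} {b : Fin l → ι} (h : Set.range b ⊆ Set.range a) : Supp b n ≤ Supp a n :=
  Finsupp.supported_mono fun _ hc => Set.Subset.trans hc h

lemma map_mem_supp {m n n' : ℕ} (f : Ch ι n →ₗ[ℤ] Ch ι n')
    (hf : ∀ b, f (Finsupp.single b 1) ∈ Supp b n') {a : Fin m → ι} {c : Ch ι n} (hc : c ∈ Supp a n) :
    f c ∈ Supp a n' :=
  supp_induction (p := fun c => f c ∈ Supp a n') hc (by simp) (fun x y hx hy => by rw [map_add]; exact add_mem hx hy)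
    (fun r x hx => by rw [map_smul]; exact Submodule.smul_mem _ r hx) fun b hb => supp_mono hb (hf b)

lemma bd_single_mem {n : ℕ} (a : Fin (n + 1) → ι) : bd n (Finsupp.single a 1) ∈ Supp a n := by
  rw [bd_single]
  exact Submodule.sum_mem _ fun k _ => zsmul_mem (single_mem_supp (Set.range_comp_subset_range _ _)) _

lemma cone_mem {m n : ℕ} {a : Fin m → ι} {v : ι} (hv : v ∈ Set.range a) {c : Ch ι n} (hc : c ∈ Supp a n) :
    cone n v c ∈ Supp a (n + 1) := by
  refine supp_induction (p := fun c => cone n v c ∈ Supp a (n + 1)) hc (by simp)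
    (fun x y hx hy => by rw [map_add]; exact add_mem hx hy)
    (fun r x hx => by rw [map_smul]; exact Submodule.smul_mem _ r hx) fun b hb => ?_
  rw [cone_single]
  refine single_mem_supp ?_
  rintro _ ⟨i, rfl⟩
  refine Fin.cases ?_ (fun i => ?_) i
  · simpa using hv
  · simpa using hb ⟨i, rfl⟩

variable [DecidableEq ι]

/-- incidence matrix -/
def inc {n : ℕ} (b a : Fin n → ι) : Matrix (Fin n) (Fin n) ℤ := Matrix.of fun i j => if b i = a j then 1 else 0

lemma det_inc_succ {n : ℕ} (b a : Fin (n + 1) → ι) (k : Fin (n + 1)) :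
    (inc b a).det = (-1 : ℤ) ^ (k : ℕ) *
      ∑ j : Fin (n + 1), (-1 : ℤ) ^ (j : ℕ) * (if b k = a j then 1 else 0) * (inc (b ∘ k.succAbove) (a ∘ j.succAbove)).det := by
  rw [Matrix.det_succ_row _ k, Finset.mul_sum]
  refine Finset.sum_congr rfl fun j _ => ?_
  rw [pow_add, mul_assoc, mul_assoc, mul_assoc]
  rfl

lemma range_subset_of_det_ne {n : ℕ} {b a : Fin n → ι} (h : (inc b a).det ≠ 0) : Set.range b ⊆ Set.range a := by
  rintro _ ⟨i, rfl⟩
  by_contra hi
  exact h (Matrix.det_eq_zero_of_row_eq_zero i fun j => if_neg fun e => hi ⟨j, e.symm⟩)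

/-- the expansion vanishes on a vertex already present -/
lemma expansion_eq_zero {n : ℕ} (c : Fin n → ι) (a : Fin (n + 1) → ι) (i : Fin n) :
    ∑ j : Fin (n + 1), (-1 : ℤ) ^ (j : ℕ) * (if c i = a j then 1 else 0) * (inc c (a ∘ j.succAbove)).det = 0 := by
  have h : (inc (Fin.cons (c i) c : Fin (n + 1) → ι) a).det = 0 :=
    Matrix.det_zero_of_row_eq (i := 0) (j := i.succ) (Fin.succ_ne_zero i).symm (by funext j; simp [inc])
  rw [det_inc_succ _ _ 0] at h
  simpa [Function.comp_def] using h

variable [Fintype ι] [LinearOrder ι]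

/-- the alternating projection -/
noncomputable def alt (n : ℕ) : Ch ι n →ₗ[ℤ] Ch ι n :=
  lc fun a => ∑ b ∈ Finset.univ.filter (fun b : Fin n → ι => StrictMono b), (inc b a).det • Finsupp.single b 1

lemma alt_single {n : ℕ} (a : Fin n → ι) :
    alt n (Finsupp.single a 1) =
      ∑ b ∈ Finset.univ.filter (fun b : Fin n → ι => StrictMono b), (inc b a).det • Finsupp.single b 1 :=
  lc_single _ a

lemma alt_eq_zero {n : ℕ} (h : Fintype.card ι < n) : alt (ι := ι) n = 0 := by
  refine lext fun a => ?_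
  rw [alt_single, LinearMap.zero_apply]
  refine Finset.sum_eq_zero fun b hb => ?_
  have := Fintype.card_le_of_injective b (Finset.mem_filter.1 hb).2.injective
  simp only [Fintype.card_fin] at this
  omega

lemma alt_single_mem {n : ℕ} (a : Fin n → ι) : alt n (Finsupp.single a 1) ∈ Supp a n := by
  rw [alt_single]
  refine Submodule.sum_mem _ fun b _ => ?_
  by_cases h : (inc b a).det = 0
  · rw [h, zero_smul]; exact zero_mem _
  · exact zsmul_mem (single_mem_supp (range_subset_of_det_ne h)) _

lemma alt_zero : alt (ι := ι) 0 = LinearMap.id := by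
  refine lext fun a => ?_
  rw [alt_single, LinearMap.id_apply, Finset.sum_eq_single a]
  · simp [inc]
  · intro b _ hb; exact absurd (Subsingleton.elim b a) hb
  · intro h; exact absurd (Finset.mem_filter.2 ⟨Finset.mem_univ _, fun i => i.elim0⟩) h

lemma alt_bd (n : ℕ) (x : Ch ι (n + 1)) : bd n (alt (n + 1) x) = alt n (bd n x) := by
  suffices h : bd n ∘ₗ alt (ι := ι) (n + 1) = alt n ∘ₗ bd n from LinearMap.congr_fun h x
  refine lext fun a => ?_
  let F : (Fin n → ι) × ι → Ch ι n := fun p =>
    (∑ j : Fin (n + 1), (-1 : ℤ) ^ (j : ℕ) * (if p.2 = a j then 1 else 0) * (inc p.1 (a ∘ j.succAbove)).det) •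
      Finsupp.single p.1 1
  have lhs : bd n (alt (n + 1) (Finsupp.single a 1)) =
      ∑ q ∈ (Finset.univ.filter (fun b : Fin (n + 1) → ι => StrictMono b)) ×ˢ (Finset.univ : Finset (Fin (n + 1))),
        F (q.1 ∘ q.2.succAbove, q.1 q.2) := by
    rw [alt_single, map_sum, Finset.sum_product]
    refine Finset.sum_congr rfl fun b _ => ?_
    rw [map_zsmul, bd_single, Finset.smul_sum]
    refine Finset.sum_congr rfl fun k _ => ?_
    rw [smul_smul, det_inc_succ b a k, mul_comm ((-1 : ℤ) ^ (k : ℕ)) _, mul_assoc, ← pow_add, ← two_mul, pow_mul,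
      neg_one_sq, one_pow, mul_one]
  have mid : ∑ q ∈ (Finset.univ.filter (fun b : Fin (n + 1) → ι => StrictMono b)) ×ˢ (Finset.univ : Finset (Fin (n + 1))),
        F (q.1 ∘ q.2.succAbove, q.1 q.2) =
      ∑ p ∈ ((Finset.univ.filter (fun c : Fin n → ι => StrictMono c)) ×ˢ (Finset.univ : Finset ι)).filter
        (fun p => p.2 ∉ Set.range p.1), F p := by
    refine Finset.sum_bij (fun q _ => (q.1 ∘ q.2.succAbove, q.1 q.2)) ?_ ?_ ?_ (fun _ _ => rfl)
    · rintro ⟨b, k⟩ hq
      simp only [Finset.mem_product, Finset.mem_filter, Finset.mem_univ, true_and, and_true] at hq ⊢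
      refine ⟨hq.comp (Fin.strictMono_succAbove k), ?_⟩
      rintro ⟨i, hi⟩
      exact Fin.succAbove_ne k i (hq.injective hi)
    · rintro ⟨b, k⟩ hb ⟨b', k'⟩ hb' e
      simp only [Finset.mem_product, Finset.mem_filter, Finset.mem_univ, true_and, and_true] at hb hb'
      simp only [Prod.mk.injEq] at e
      have hr : Set.range b = Set.range b' := by
        have key : ∀ (b : Fin (n + 1) → ι) (k : Fin (n + 1)), Set.range b = insert (b k) (Set.range (b ∘ k.succAbove)) := by
          intro b k
          rw [Set.range_comp, Fin.range_succAbove, ← Set.image_insert_eq, ← Set.image_univ,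
            show insert k ({k}ᶜ : Set (Fin (n + 1))) = Set.univ by ext; simp [em]]
        rw [key b k, key b' k', e.1, e.2]
      obtain rfl := (hb.range_inj hb').1 hr
      exact Prod.ext rfl (hb.injective e.2)
    · rintro ⟨c, v⟩ hp
      simp only [Finset.mem_filter, Finset.mem_product, Finset.mem_univ, true_and, and_true] at hp
      obtain ⟨hc, hv⟩ := hp
      let s : Finset ι := insert v (Finset.univ.image c)
      have hs : s.card = n + 1 := by
        rw [Finset.card_insert_of_notMem (by simpa using hv), Finset.card_image_of_injective _ hc.injective,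
          Finset.card_univ, Fintype.card_fin]
      let b := s.orderEmbOfFin hs
      have hb : StrictMono b := b.strictMono
      have hrange : Set.range b = insert v (Set.range c) := by
        rw [Finset.range_orderEmbOfFin]; simp [s, Set.image_univ]
      obtain ⟨k, hk⟩ : v ∈ Set.range b := hrange ▸ Set.mem_insert _ _
      refine ⟨(b, k), by simpa using hb, Prod.ext ?_ hk⟩
      refine ((hb.comp (Fin.strictMono_succAbove k)).range_inj hc).1 ?_
      rw [Set.range_comp, Fin.range_succAbove, Set.compl_eq_univ_diff, Set.image_diff hb.injective, Set.image_univ,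
        Set.image_singleton, hk, hrange, Set.insert_diff_self_of_notMem hv]
  rw [LinearMap.comp_apply, LinearMap.comp_apply, lhs, mid]
  rw [Finset.sum_filter_of_ne (fun p _ hp => by
    rintro ⟨i, hi⟩
    exact hp (show F p = 0 by simp only [F, ← hi, expansion_eq_zero, zero_smul])), Finset.sum_product]
  rw [bd_single, map_sum]
  simp only [map_zsmul, alt_single, Finset.smul_sum, smul_smul]
  rw [Finset.sum_comm (s := (Finset.univ : Finset (Fin (n + 1))))]
  refine Finset.sum_congr rfl fun c _ => ?_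
  simp only [F, ← Finset.sum_smul]
  congr 1
  rw [Finset.sum_comm]
  refine Finset.sum_congr rfl fun j _ => ?_
  simp

/-- the homotopy -/
noncomputable def hty : (n : ℕ) → (Ch ι n →ₗ[ℤ] Ch ι (n + 1))
  | 0 => 0
  | n + 1 => lc fun a => cone (n + 1) (a 0)
      (Finsupp.single a 1 - alt (n + 1) (Finsupp.single a 1) - hty n (bd n (Finsupp.single a 1)))

lemma hty_succ_single (n : ℕ) (a : Fin (n + 1) → ι) : hty (n + 1) (Finsupp.single a 1) = cone (n + 1) (a 0)
    (Finsupp.single a 1 - alt (n + 1) (Finsupp.single a 1) - hty n (bd n (Finsupp.single a 1))) := lc_single _ a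

lemma hty_single_mem : ∀ (n : ℕ) (a : Fin n → ι), hty n (Finsupp.single a 1) ∈ Supp a (n + 1)
  | 0, a => by simp [hty]
  | n + 1, a => by
    rw [hty_succ_single]
    exact cone_mem ⟨0, rfl⟩ (sub_mem (sub_mem (single_mem_supp (Set.Subset.refl _)) (alt_single_mem a))
      (map_mem_supp _ (hty_single_mem n) (bd_single_mem a)))

lemma hty_spec : ∀ (n : ℕ) (x : Ch ι (n + 1)),
    bd (n + 1) (hty (n + 1) x) + hty n (bd n x) = x - alt (n + 1) x := by
  intro n
  induction n with
  | zero =>
    intro x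
    suffices h : bd 1 ∘ₗ hty 1 + hty 0 ∘ₗ bd 0 = LinearMap.id - alt (ι := ι) 1 from LinearMap.congr_fun h x
    refine lext fun a => ?_
    simp only [LinearMap.add_apply, LinearMap.sub_apply, LinearMap.comp_apply, LinearMap.id_coe, id_eq]
    rw [hty_succ_single, bd_cone]
    have : bd 0 (Finsupp.single a 1 - alt 1 (Finsupp.single a 1) - hty 0 (bd 0 (Finsupp.single a 1))) = 0 := by
      simp only [map_sub, alt_bd, alt_zero, LinearMap.id_coe, id_eq, sub_self, hty, LinearMap.zero_apply, map_zero]
    rw [this, map_zero, sub_zero, sub_add_cancel]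
  | succ n ih =>
    intro x
    suffices h : bd (n + 2) ∘ₗ hty (n + 2) + hty (n + 1) ∘ₗ bd (n + 1) = LinearMap.id - alt (ι := ι) (n + 2) from
      LinearMap.congr_fun h x
    refine lext fun a => ?_
    simp only [LinearMap.add_apply, LinearMap.sub_apply, LinearMap.comp_apply, LinearMap.id_coe, id_eq]
    rw [hty_succ_single, bd_cone]
    have : bd (n + 1) (Finsupp.single a 1 - alt (n + 2) (Finsupp.single a 1)
        - hty (n + 1) (bd (n + 1) (Finsupp.single a 1))) = 0 := by
      have h := ih (bd (n + 1) (Finsupp.single a 1))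
      rw [bd_bd, map_zero, add_zero] at h
      rw [map_sub, map_sub, alt_bd, h, sub_self]
    rw [this, map_zero, sub_zero, sub_add_cancel]

lemma hty_spec_of_card {n : ℕ} (h : Fintype.card ι < n + 1) (x : Ch ι (n + 1)) :
    bd (n + 1) (hty (n + 1) x) + hty n (bd n x) = x := by
  rw [hty_spec, alt_eq_zero h, LinearMap.zero_apply, sub_zero]

end Groth.Agent.CechAlt
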