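import Groth.Agent.CechAlt.Chains
import Groth.Agent.SiteCoh.Cech
import Groth.Prelude.Def_CohTop
import Mathlib.Data.Fintype.EquivFin

/-!
Čech cohomology of a finite family vanishes from the number of members on.
-/

set_option autoImplicit false
set_option backward.isDefEq.respectTransparency false

universe u

open CategoryTheory CategoryTheory.Limits TopologicalSpace Opposite

namespace Groth.Agent.CechAlt

open Groth.Agent.SiteCoh

variable {X : TopCat.{u}} {ι : Type u} (U : ι → Opens X) (P : (Opens X)ᵒᵖ ⥤ AddCommGrpCat.{u})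

lemma nonempty_hom {m n : ℕ} {a : Fin (m + 1) → ι} {b : Fin (n + 1) → ι} (h : Set.range b ⊆ Set.range a) :
    Nonempty (tupleProd U a ⟶ tupleProd U b) :=
  ⟨Pi.lift fun i => Pi.π (U ∘ a) (h ⟨i, rfl⟩).choose ≫ eqToHom (congrArg U (h ⟨i, rfl⟩).choose_spec)⟩

open Classical in
/-- value of a cochain on a chain -/
noncomputable def ev (W : Opens X) {n : ℕ} (x : Cochain U P n) : Ch ι (n + 1) →ₗ[ℤ] P.obj (op W) :=
  lc fun b => if h : Nonempty (W ⟶ tupleProd U b) then P.map h.some.op (x b) else 0

lemma ev_single {W : Opens X} {n : ℕ} (x : Cochain U P n) {b : Fin (n + 1) → ι} (g : W ⟶ tupleProd U b) :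
    ev U P W x (Finsupp.single b 1) = P.map g.op (x b) := by
  rw [ev, lc_single, dif_pos ⟨g⟩, Subsingleton.elim (Nonempty.some ⟨g⟩) g]

lemma map_ev {m n : ℕ} {a : Fin (m + 1) → ι} {W : Opens X} (g : W ⟶ tupleProd U a) (x : Cochain U P n)
    {c : Ch ι (n + 1)} (hc : c ∈ Supp a (n + 1)) :
    P.map g.op (ev U P (tupleProd U a) x c) = ev U P W x c := by
  refine supp_induction (p := fun c => P.map g.op (ev U P (tupleProd U a) x c) = ev U P W x c) hc
    (by simp) (fun c d hc hd => by rw [map_add, map_add, map_add, hc, hd])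
    (fun r c hc => by rw [LinearMap.map_smul, LinearMap.map_smul, map_zsmul, hc]) fun b hb => ?_
  obtain ⟨k⟩ := nonempty_hom U hb
  rw [ev_single U P x k, ev_single U P x (g ≫ k), op_comp, Functor.map_comp_apply]

lemma ev_bd {m n : ℕ} {a : Fin (m + 1) → ι} (x : Cochain U P n) {d : Ch ι (n + 2)} (hd : d ∈ Supp a (n + 2)) :
    ev U P (tupleProd U a) x (bd (n + 1) d) = ev U P (tupleProd U a) (cd U P x) d := by
  refine supp_induction (p := fun d => ev U P (tupleProd U a) x (bd (n + 1) d) = ev U P (tupleProd U a) (cd U P x) d) hd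
    (by simp) (fun c d hc hd => by rw [map_add, map_add, map_add, hc, hd])
    (fun r c hc => by rw [map_smul, map_smul, map_smul, hc]) fun b hb => ?_
  obtain ⟨k⟩ := nonempty_hom U hb
  rw [bd_single, map_sum, ev_single U P _ k, cd_sum, map_sum]
  refine Finset.sum_congr rfl fun j _ => ?_
  rw [map_zsmul, map_zsmul, ev_single U P x (k ≫ tupleDrop U b j), op_comp, Functor.map_comp_apply]

lemma ev_zero (W : Opens X) {n : ℕ} (c : Ch ι (n + 1)) : ev U P W (0 : Cochain U P n) c = 0 := by
  have : ev U P W (0 : Cochain U P n) = 0 := lext fun b => by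
    rw [ev, lc_single, LinearMap.zero_apply]
    split_ifs
    · exact map_zero _
    · rfl
  rw [this, LinearMap.zero_apply]

theorem cechExact [Fintype ι] [LinearOrder ι] (n : ℕ) (h : Fintype.card ι ≤ n + 1) : CechExact U P n := by
  intro x hx
  refine ⟨fun b => ev U P (tupleProd U b) x (hty (n + 1) (Finsupp.single b 1)), funext fun a => ?_⟩
  have hmem := fun k : Fin (n + 2) => hty_single_mem (n + 1) (a ∘ k.succAbove)
  have key : cd U P (fun b => ev U P (tupleProd U b) x (hty (n + 1) (Finsupp.single b 1))) a =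
      ev U P (tupleProd U a) x (hty (n + 1) (bd (n + 1) (Finsupp.single a 1))) := by
    rw [cd_sum, bd_single, map_sum, map_sum]
    refine Finset.sum_congr rfl fun k _ => ?_
    rw [map_zsmul, map_zsmul, map_ev U P (tupleDrop U a k) x (hmem k)]
  rw [key]
  have h2 := congrArg (ev U P (tupleProd U a) x) (hty_spec_of_card (n := n + 1) (by omega) (Finsupp.single a 1))
  rw [map_add, ev_bd U P x (hty_single_mem (n + 2) a), hx, ev_zero, zero_add, ev_single U P x (𝟙 _)] at h2
  rw [h2, op_id, CategoryTheory.Functor.map_id]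
  rfl

theorem isZero_cechH [Finite ι] (q : ℕ) (hq : Nat.card ι ≤ q) : IsZero (CohTop.cechH P U q) := by
  letI := Fintype.ofFinite ι
  rw [Nat.card_eq_fintype_card] at hq
  cases q with
  | zero =>
    haveI : IsEmpty ι := Fintype.card_eq_zero_iff.1 (Nat.le_zero.1 hq)
    refine ShortComplex.isZero_homology_of_isZero_X₂ _ ?_
    change IsZero ((cechCx U P).X 0)
    haveI : Subsingleton ((cechCx U P).X 0) := by
      haveI : Subsingleton (Cochain U P 0) := ⟨fun x y => funext fun a => (IsEmpty.false (a 0)).elim⟩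
      exact (cochainEquiv U P 0).injective.subsingleton
    exact AddCommGrpCat.isZero_of_subsingleton _
  | succ n =>
    letI : LinearOrder ι := LinearOrder.lift' (Fintype.equivFin ι) (Fintype.equivFin ι).injective
    exact (isZero_cech_iff U P n).2 (cechExact U P n hq)

end Groth.Agent.CechAlt
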